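import Mathlib

/-!
# Fractional packing of bases of a vector configuration

A weight vector `W` satisfying Edmonds' rank inequalities for `q` bases is, up to a multiple, a sum of
indicator vectors of bases.
-/

set_option autoImplicit false
universe u v
noncomputable section
open Module
open scoped Classical

namespace Groth.Agent.BasisPack

variable {K : Type u} [Field K] {E : Type} [Fintype E]

section defs
variable (K) {V : Type v} [AddCommGroup V] [Module K V]

/-- The rank of a set of vectors of the configuration. -/
def rk (x : E → V) (F : Finset E) : ℕ := finrank K (Submodule.span K (x '' (F : Set E)))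

/-- Edmonds' inequalities. -/
def Feas (q : ℕ) (x : E → V) (W : E → ℕ) : Prop :=
  (∀ F : Finset E, ∑ e ∈ F, W e ≤ q * rk K x F) ∧ ∑ e, W e = q * finrank K V

/-- A multiple of `W` is a sum of bases. -/
def Decomp (q : ℕ) (x : E → V) (W : E → ℕ) : Prop :=
  ∃ (T : Type) (_ : Fintype T) (B : T → Finset E), 0 < Fintype.card T ∧
    (∀ t, (B t).card = finrank K V ∧ LinearIndepOn K x (B t : Set E)) ∧
    ∀ j, q * (Finset.univ.filter fun t => j ∈ B t).card = Fintype.card T * W j

/-- The support. -/
def supp (W : E → ℕ) : Finset E := Finset.univ.filter fun e => 0 < W e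

end defs

variable {V : Type v} [AddCommGroup V] [Module K V] [FiniteDimensional K V]

omit [Fintype E] in
theorem rk_mono (x : E → V) {F G : Finset E} (h : F ⊆ G) : rk K x F ≤ rk K x G :=
  Submodule.finrank_mono (Submodule.span_mono (Set.image_mono (Finset.coe_subset.2 h)))

omit [Fintype E] [FiniteDimensional K V] in
theorem rk_le_card (x : E → V) (F : Finset E) : rk K x F ≤ F.card := by
  rw [rk, ← Finset.coe_image]
  exact (finrank_span_finset_le_card _).trans Finset.card_image_le

theorem sum_supp (W : E → ℕ) (F : Finset E) : ∑ e ∈ F ∩ supp W, W e = ∑ e ∈ F, W e := by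
  refine Finset.sum_subset Finset.inter_subset_left fun e he hne => ?_
  simp only [Finset.mem_inter, supp, Finset.mem_filter, Finset.mem_univ, true_and, not_and, not_lt] at hne
  exact Nat.le_zero.1 (hne he)

/-- Weighted sums of decompositions. -/
theorem Decomp.average {q : ℕ} {x : E → V} {W W₁ W₂ : E → ℕ} {a b : ℕ} (hab : 0 < a + b)
    (h : ∀ e, b * W₁ e + a * W₂ e = (a + b) * W e) (h₁ : Decomp K q x W₁) (h₂ : Decomp K q x W₂) :
    Decomp K q x W := by
  obtain ⟨T₁, _, B₁, hT₁, hB₁, hc₁⟩ := h₁
  obtain ⟨T₂, _, B₂, hT₂, hB₂, hc₂⟩ := h₂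
  refine ⟨(Fin (b * Fintype.card T₂) × T₁) ⊕ (Fin (a * Fintype.card T₁) × T₂), inferInstance,
    Sum.elim (fun p => B₁ p.2) (fun p => B₂ p.2), ?_, ?_, fun j => ?_⟩
  · simp only [Fintype.card_sum, Fintype.card_prod, Fintype.card_fin]
    have : 0 < (a + b) * (Fintype.card T₁ * Fintype.card T₂) := Nat.mul_pos hab (Nat.mul_pos hT₁ hT₂)
    linarith
  · rintro (⟨_, t⟩ | ⟨_, t⟩)
    · exact hB₁ t
    · exact hB₂ t
  · have e : ∀ (n : ℕ) {T : Type} [Fintype T] (B : T → Finset E),
        (Finset.univ.filter fun p : Fin n × T => j ∈ B p.2).card = n * (Finset.univ.filter fun t => j ∈ B t).card := by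
      intro n T _ B
      rw [show (Finset.univ.filter fun p : Fin n × T => j ∈ B p.2) =
        Finset.univ ×ˢ (Finset.univ.filter fun t => j ∈ B t) by ext; simp, Finset.card_product, Finset.card_univ,
        Fintype.card_fin]
    rw [show (Finset.univ.filter fun p : (Fin (b * Fintype.card T₂) × T₁) ⊕ (Fin (a * Fintype.card T₁) × T₂) =>
        j ∈ Sum.elim (fun p => B₁ p.2) (fun p => B₂ p.2) p) =
      (Finset.univ.filter fun p : Fin (b * Fintype.card T₂) × T₁ => j ∈ B₁ p.2).disjSum
        (Finset.univ.filter fun p : Fin (a * Fintype.card T₁) × T₂ => j ∈ B₂ p.2) by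
      ext (c | c) <;> simp, Finset.card_disjSum]
    simp only [Fintype.card_sum, Fintype.card_prod, Fintype.card_fin]
    rw [e, e]
    linear_combination (b * Fintype.card T₂) * hc₁ j + (a * Fintype.card T₁) * hc₂ j +
      (Fintype.card T₁ * Fintype.card T₂) * h j

/-- Splitting along a tight set. -/
theorem decomp_of_tight {q : ℕ} {x : E → V} {W : E → ℕ}
    (ih : ∀ (V' : Type v) [AddCommGroup V'] [Module K V'] [FiniteDimensional K V'] (x' : E → V') (W' : E → ℕ),
      (supp W').card < (supp W).card → Feas K q x' W' → Decomp K q x' W')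
    (hW : Feas K q x W) (F : Finset E) (hFs : F ⊆ supp W) (hne : F.Nonempty) (hprop : F ≠ supp W)
    (htight : ∑ e ∈ F, W e = q * rk K x F) : Decomp K q x W := by
  let L := Submodule.span K (x '' (F : Set E))
  have hmemL : ∀ e ∈ F, x e ∈ L := fun e he => Submodule.subset_span ⟨e, he, rfl⟩
  let x₁ : E → L := fun e => if h : e ∈ F then ⟨x e, hmemL e h⟩ else 0
  let x₂ : E → V ⧸ L := fun e => L.mkQ (x e)
  let W₁ : E → ℕ := fun e => if e ∈ F then W e else 0
  let W₂ : E → ℕ := fun e => if e ∈ F then 0 else W e
  have hsum₁ : ∀ G : Finset E, ∑ e ∈ G, W₁ e = ∑ e ∈ G ∩ F, W e := fun G => by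
    rw [← Finset.filter_mem_eq_inter, Finset.sum_filter]
  have hsum₂ : ∀ G : Finset E, ∑ e ∈ G, W₂ e = ∑ e ∈ G \ F, W e := fun G => by
    rw [← Finset.filter_notMem_eq_sdiff, Finset.sum_filter]
    exact Finset.sum_congr rfl fun e _ => by simp [W₂, ite_not]
  have hx₁ : ∀ G : Finset E, rk K x (G ∩ F) ≤ rk K x₁ G := fun G => by
    rw [rk, rk, ← LinearEquiv.finrank_eq (Submodule.equivMapOfInjective L.subtype L.injective_subtype
      (Submodule.span K (x₁ '' (G : Set E)))).symm, Submodule.map_span]
    refine Submodule.finrank_mono (Submodule.span_mono ?_)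
    rintro _ ⟨e, he, rfl⟩
    obtain ⟨heG, heF⟩ := Finset.mem_inter.1 he
    exact ⟨x₁ e, ⟨e, heG, rfl⟩, by simp [x₁, heF]⟩
  have hq₂ : ∀ G : Finset E, rk K x₂ G + rk K x F = rk K x (G ∪ F) := fun G => by
    rw [rk, rk, rk, Finset.coe_union, Set.image_union, Submodule.span_union,
      show x₂ '' (G : Set E) = L.mkQ '' (x '' (G : Set E)) from (Set.image_image _ _ _).symm,
      ← Submodule.map_span]
    have h := LinearMap.finrank_range_add_finrank_ker
      (L.mkQ.domRestrict (Submodule.span K (x '' (G : Set E)) ⊔ L))
    rw [LinearMap.range_domRestrict, Submodule.map_sup, Submodule.mkQ_map_self, sup_bot_eq,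
      LinearMap.ker_domRestrict, Submodule.ker_mkQ] at h
    rw [← h, LinearEquiv.finrank_eq (Submodule.comapSubtypeEquivOfLe (show L ≤ _ from le_sup_right))]
  have hdimL : finrank K L = rk K x F := rfl
  have h₁ : Decomp K q x₁ W₁ := by
    refine ih L x₁ W₁ (Finset.card_lt_card ?_) ⟨fun G => ?_, ?_⟩
    · refine Finset.ssubset_of_subset_of_ssubset (s₂ := F) (fun e he => ?_) (Finset.ssubset_iff_subset_ne.2 ⟨hFs, hprop⟩)
      by_contra hF
      simp [supp, W₁, hF] at he
    · rw [hsum₁]
      exact (hW.1 _).trans (Nat.mul_le_mul_left _ (hx₁ G))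
    · rw [hsum₁, Finset.univ_inter, htight, hdimL]
  have h₂ : Decomp K q x₂ W₂ := by
    refine ih (V ⧸ L) x₂ W₂ (Finset.card_lt_card ?_) ⟨fun G => ?_, ?_⟩
    · refine Finset.ssubset_of_subset_of_ssubset (s₂ := supp W \ F) (fun e he => ?_) ?_
      · by_cases hF : e ∈ F
        · simp [supp, W₂, hF] at he
        · simpa [supp, W₂, hF] using he
      · refine Finset.ssubset_iff_subset_ne.2 ⟨Finset.sdiff_subset, fun h => ?_⟩
        obtain ⟨e, he⟩ := hne
        have h' := hFs he
        rw [← h, Finset.mem_sdiff] at h'
        exact h'.2 he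
    · rw [hsum₂]
      have h := hW.1 (G ∪ F)
      rw [← Finset.sdiff_union_self_eq_union, Finset.sum_union Finset.sdiff_disjoint, htight,
        Finset.sdiff_union_self_eq_union, ← hq₂, mul_add] at h
      omega
    · rw [hsum₂]
      have h := hW.2
      rw [← Finset.sum_sdiff (Finset.subset_univ F), htight, ← Submodule.finrank_quotient_add_finrank L,
        hdimL, mul_add] at h
      omega
  obtain ⟨T₁, _, B₁, hT₁, hB₁, hc₁⟩ := h₁
  obtain ⟨T₂, _, B₂, hT₂, hB₂, hc₂⟩ := h₂
  have hq0 : 0 < q := by
    rcases Nat.eq_zero_or_pos q with rfl | h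
    · obtain ⟨e, he⟩ := hne
      have h1 : 0 < W e := (Finset.mem_filter.1 (hFs he)).2
      have h2 := Finset.single_le_sum (fun i _ => Nat.zero_le (W i)) he
      rw [htight, zero_mul] at h2
      omega
    · exact h
  have hsub₁ : ∀ t, ∀ e ∈ B₁ t, e ∈ F := by
    intro t e he
    by_contra hF
    have h := hc₁ e
    simp only [W₁, if_neg hF, mul_zero, mul_eq_zero, hq0.ne', Finset.card_eq_zero, false_or] at h
    exact Finset.eq_empty_iff_forall_notMem.1 h t (Finset.mem_filter.2 ⟨Finset.mem_univ t, he⟩)
  have hsub₂ : ∀ t, ∀ e ∈ B₂ t, e ∉ F := by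
    intro t e he hF
    have h := hc₂ e
    simp only [W₂, if_pos hF, mul_zero, mul_eq_zero, hq0.ne', Finset.card_eq_zero, false_or] at h
    exact Finset.eq_empty_iff_forall_notMem.1 h t (Finset.mem_filter.2 ⟨Finset.mem_univ t, he⟩)
  refine ⟨T₁ × T₂, inferInstance, fun p => B₁ p.1 ∪ B₂ p.2,
    by rw [Fintype.card_prod]; exact Nat.mul_pos hT₁ hT₂, fun p => ⟨?_, ?_⟩, fun j => ?_⟩
  · rw [Finset.card_union_of_disjoint (Finset.disjoint_left.2 fun e h1 h2 => hsub₂ _ e h2 (hsub₁ _ e h1)),
      (hB₁ p.1).1, (hB₂ p.2).1, add_comm, Submodule.finrank_quotient_add_finrank]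
  · rw [Finset.coe_union]
    have hs : LinearIndepOn K x (B₁ p.1 : Set E) := by
      have h := (hB₁ p.1).2.map' L.subtype L.ker_subtype
      have e' : (L.subtype ∘ fun e : (B₁ p.1 : Set E) => x₁ e.1) = fun e : (B₁ p.1 : Set E) => x e.1 := by
        funext e
        simp [x₁, hsub₁ p.1 e.1 e.2]
      show LinearIndependent K fun e : (B₁ p.1 : Set E) => x e.1
      rw [← e']
      exact h
    refine hs.union_of_quotient ?_
    have hle : Submodule.span K (x '' (B₁ p.1 : Set E)) ≤ L :=
      Submodule.span_le.2 fun _ ⟨e, he, h⟩ => h ▸ hmemL e (hsub₁ _ e he)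
    refine LinearIndependent.of_comp (Submodule.mapQ _ L LinearMap.id hle) ?_
    exact (hB₂ p.2).2
  · by_cases hj : j ∈ F
    · rw [show (Finset.univ.filter fun p : T₁ × T₂ => j ∈ B₁ p.1 ∪ B₂ p.2) =
        (Finset.univ.filter fun t => j ∈ B₁ t) ×ˢ Finset.univ by
          ext p
          simp only [Finset.mem_filter, Finset.mem_univ, true_and, Finset.mem_union, Finset.mem_product, and_true]
          exact ⟨fun h => h.resolve_right fun h2 => hsub₂ _ j h2 hj, Or.inl⟩,
        Finset.card_product, Finset.card_univ, Fintype.card_prod]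
      have := hc₁ j
      simp only [W₁, if_pos hj] at this
      linear_combination Fintype.card T₂ * this
    · rw [show (Finset.univ.filter fun p : T₁ × T₂ => j ∈ B₁ p.1 ∪ B₂ p.2) =
        Finset.univ ×ˢ (Finset.univ.filter fun t => j ∈ B₂ t) by
          ext p
          simp only [Finset.mem_filter, Finset.mem_univ, true_and, Finset.mem_union, Finset.mem_product]
          exact ⟨fun h => h.resolve_left fun h1 => hj (hsub₁ _ j h1), Or.inr⟩,
        Finset.card_product, Finset.card_univ, Fintype.card_prod]
      have := hc₂ j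
      simp only [W₂, if_neg hj] at this
      linear_combination Fintype.card T₁ * this

/-- Edmonds: the rank inequalities imply a fractional decomposition into bases. -/
theorem decomp_of_feas {q : ℕ} (hq : 0 < q) : ∀ (s : ℕ) (V : Type v) [AddCommGroup V] [Module K V]
    [FiniteDimensional K V] (x : E → V) (W : E → ℕ), (supp W).card = s → Feas K q x W → Decomp K q x W := by
  intro s
  induction s using Nat.strong_induction_on with
  | _ s ih =>
    intro V _ _ _ x W hs hW
    have ih' : ∀ (V' : Type v) [AddCommGroup V'] [Module K V'] [FiniteDimensional K V'] (x' : E → V') (W' : E → ℕ),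
        (supp W').card < (supp W).card → Feas K q x' W' → Decomp K q x' W' :=
      fun V' _ _ _ x' W' h hf => ih _ (hs ▸ h) V' x' W' rfl hf
    by_cases htight : ∃ F ⊆ supp W, F.Nonempty ∧ F ≠ supp W ∧ ∑ e ∈ F, W e = q * rk K x F
    · obtain ⟨F, h1, h2, h3, h4⟩ := htight
      exact decomp_of_tight ih' hW F h1 h2 h3 h4
    push Not at htight
    have hall : ∑ e ∈ supp W, W e = q * finrank K V := by
      rw [← hW.2, ← sum_supp W Finset.univ, Finset.univ_inter]
    have hle1 : ∀ e, W e ≤ q := fun e => by
      have h := (hW.1 {e}).trans (Nat.mul_le_mul_left _ (rk_le_card x {e}))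
      rwa [Finset.sum_singleton, Finset.card_singleton, mul_one] at h
    rcases le_or_gt (supp W).card (finrank K V) with hcard | hcard
    · have hrk : finrank K V ≤ rk K x (supp W) :=
        Nat.le_of_mul_le_mul_left (hall ▸ hW.1 (supp W)) hq
      have hc : (supp W).card = finrank K V := le_antisymm hcard (hrk.trans (rk_le_card x _))
      have hval : ∀ e ∈ supp W, W e = q := by
        intro e he
        by_contra hne
        have hlt : ∑ i ∈ supp W, W i < ∑ i ∈ supp W, q :=
          Finset.sum_lt_sum (fun i _ => hle1 i) ⟨e, he, lt_of_le_of_ne (hle1 e) hne⟩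
        rw [hall, Finset.sum_const, smul_eq_mul, hc, mul_comm] at hlt
        exact lt_irrefl _ hlt
      refine ⟨Unit, inferInstance, fun _ => supp W, by simp, fun _ => ⟨hc, ?_⟩, fun j => ?_⟩
      · refine linearIndependent_iff_card_le_finrank_span.2 ?_
        rw [Set.finrank, ← Set.image_eq_range]
        simp only [Finset.coe_sort_coe, Fintype.card_coe]
        rw [hc]
        exact hrk
      · by_cases hj : j ∈ supp W
        · simp [hj, hval j hj]
        · have : W j = 0 := by simpa [supp] using hj
          simp [hj, this]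
    · have h2 : 1 < (supp W).card := by
        rcases Nat.eq_zero_or_pos (finrank K V) with h0 | h0
        · obtain ⟨e, he⟩ := Finset.card_pos.1 (show 0 < (supp W).card by omega)
          have h1 := Finset.single_le_sum (fun i _ => Nat.zero_le (W i)) he
          rw [hall, h0, mul_zero] at h1
          exact absurd (Finset.mem_filter.1 he).2 (by omega)
        · omega
      obtain ⟨j, hj, l, hl, hjl⟩ := Finset.one_lt_card.1 h2
      have shift : ∀ j l, j ∈ supp W → l ∈ supp W → j ≠ l → ∃ a, 0 < a ∧ a ≤ W l ∧
          Decomp K q x (fun e => if e = j then W j + a else if e = l then W l - a else W e) := by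
        intro j l hj hl hjl
        let W' : ℕ → E → ℕ := fun a e => if e = j then W j + a else if e = l then W l - a else W e
        have hsum : ∀ a, a ≤ W l → ∀ F : Finset E, (∑ e ∈ F, W' a e) + (if l ∈ F then a else 0) =
            (∑ e ∈ F, W e) + (if j ∈ F then a else 0) := by
          intro a ha F
          have e1 : (if l ∈ F then a else 0) = ∑ e ∈ F, if e = l then a else 0 := (Finset.sum_ite_eq' F l (fun _ => a)).symm
          have e2 : (if j ∈ F then a else 0) = ∑ e ∈ F, if e = j then a else 0 := (Finset.sum_ite_eq' F j (fun _ => a)).symm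
          rw [e1, e2, ← Finset.sum_add_distrib, ← Finset.sum_add_distrib]
          refine Finset.sum_congr rfl fun e _ => ?_
          rcases eq_or_ne e j with rfl | hej
          · simp [W', hjl]
          · rcases eq_or_ne e l with rfl | hel
            · simp only [W', if_neg hej, if_true]; omega
            · simp [W', hej, hel]
        have htot : ∀ a, a ≤ W l → ∑ e, W' a e = q * finrank K V := fun a ha => by
          have := hsum a ha Finset.univ
          have := hW.2
          simp only [Finset.mem_univ, if_true] at *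
          omega
        let P : ℕ → Prop := fun a => a ≤ W l ∧ Feas K q x (W' a)
        have hW0 : W' 0 = W := funext fun e => by
          simp only [W', add_zero, Nat.sub_zero]
          split_ifs with h1 h2 <;> simp [*]
        have hP0 : P 0 := ⟨Nat.zero_le _, hW0 ▸ hW⟩
        have hPa : P (Nat.findGreatest P (W l)) := Nat.findGreatest_spec (Nat.zero_le _) hP0
        set a := Nat.findGreatest P (W l) with hadef
        have hWl : 0 < W l := (Finset.mem_filter.1 hl).2
        have hWj : 0 < W j := (Finset.mem_filter.1 hj).2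
        have hsupp : supp (W' a) ⊆ supp W := fun e he => by
          simp only [supp, Finset.mem_filter, Finset.mem_univ, true_and, W'] at he ⊢
          split_ifs at he with h1 h3
          · exact h1 ▸ hWj
          · exact h3 ▸ hWl
          · exact he
        rcases eq_or_lt_of_le hPa.1 with haeq | halt
        · refine ⟨a, haeq.symm ▸ hWl, haeq.le, ih' V x _ (Finset.card_lt_card
            (Finset.ssubset_iff_subset_ne.2 ⟨hsupp, fun h => ?_⟩)) hPa.2⟩
          have hl' := hl
          rw [← h] at hl'
          simp [supp, W', hjl.symm, haeq] at hl'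
        · have hnP : ¬ P (a + 1) := fun h => by
            have := Nat.le_findGreatest (show a + 1 ≤ W l from halt) h
            rw [← hadef] at this
            omega
          simp only [P, not_and] at hnP
          have hnF := hnP halt
          obtain ⟨F, hF⟩ : ∃ F : Finset E, q * rk K x F < ∑ e ∈ F, W' (a + 1) e := by
            by_contra hno
            push Not at hno
            exact hnF ⟨hno, htot _ halt⟩
          have h1 := hsum a hPa.1 F
          have h3 := hsum (a + 1) halt F
          have h4 := hPa.2.1 F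
          have hjF : j ∈ F := by
            by_contra h
            simp only [if_neg h] at h1 h3
            split_ifs at h1 h3 <;> omega
          have hlF : l ∉ F := by
            intro h
            simp only [if_pos h, if_pos hjF] at h1 h3
            omega
          simp only [if_pos hjF, if_neg hlF] at h1 h3
          have ht : ∑ e ∈ F, W' a e = q * rk K x F := by omega
          let G := F ∩ supp (W' a)
          have hGt : ∑ e ∈ G, W' a e = q * rk K x G := by
            refine le_antisymm (hPa.2.1 G) ?_
            rw [sum_supp, ht]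
            exact Nat.mul_le_mul_left _ (rk_mono x Finset.inter_subset_left)
          have hjG : j ∈ G := Finset.mem_inter.2 ⟨hjF, Finset.mem_filter.2 ⟨Finset.mem_univ _, by
            simp only [W', if_true]; omega⟩⟩
          have hlS : l ∈ supp (W' a) := Finset.mem_filter.2 ⟨Finset.mem_univ _, by
            simp only [W', if_neg hjl.symm, if_true]; omega⟩
          have hprop : G ≠ supp (W' a) := fun h => hlF (Finset.mem_inter.1 (h.symm ▸ hlS)).1
          refine ⟨a, Nat.pos_of_ne_zero fun ha0 => ?_, hPa.1, decomp_of_tight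
            (fun V' _ _ _ x' Wn h hf => ih' V' x' Wn (lt_of_lt_of_le h (Finset.card_le_card hsupp)) hf)
            hPa.2 G Finset.inter_subset_right ⟨j, hjG⟩ hprop hGt⟩
          rw [ha0, hW0] at hGt hprop
          exact htight G (by rw [show supp W = supp (W' a) by rw [ha0, hW0]]; exact Finset.inter_subset_right)
            ⟨j, hjG⟩ hprop hGt
      obtain ⟨a, ha, hal, hA⟩ := shift j l hj hl hjl
      obtain ⟨b, hb, hbj, hB⟩ := shift l j hl hj hjl.symm
      refine Decomp.average (show 0 < a + b by omega) (fun e => ?_) hA hB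
      obtain ⟨u, hu⟩ := Nat.exists_eq_add_of_le hal
      obtain ⟨w, hw⟩ := Nat.exists_eq_add_of_le hbj
      rcases eq_or_ne e j with rfl | hej
      · simp only [if_true, if_neg hjl, hw, Nat.add_sub_cancel_left]
        ring
      · rcases eq_or_ne e l with rfl | hel
        · simp only [if_true, if_neg hej, hu, Nat.add_sub_cancel_left]
          ring
        · simp only [if_neg hej, if_neg hel]
          ring

end Groth.Agent.BasisPack
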